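import Groth.Agent.EtpbcB.BCCalc
import Groth.Agent.Etcore.LocSec

/-!
# Pullback of sections of étale sheaves along scheme morphisms

`sp f a h G : G(V) → (f⁻¹G)(W)` for `f : X ⟶ Y`, `V` étale over `Y`, `W` étale over `X` and
`a : W.left ⟶ V.left` over `f`; rules for restriction, composition, maps of sheaves, and the
section formula for `EtCoh.baseChange0`.
-/

set_option autoImplicit false
universe u
open CategoryTheory CategoryTheory.Limits AlgebraicGeometry Opposite

namespace Groth.Agent.Etdl.H165.SpCalc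

open EtCoh Groth.Agent.EtpbcB.BCCalc Groth.Agent.Etcore.LocSec

variable {X Y Z : Scheme.{u}}

/-- pullback of sections along a morphism of schemes -/
noncomputable def sp (f : X ⟶ Y) {V : Y.Etale} {W : X.Etale} (a : W.left ⟶ V.left)
    (h : a ≫ V.hom = W.hom ≫ f) (G : Ab Y) : sect G V →+ sect ((pull f).obj G) W :=
  secPull f (lift f a h) G

theorem secPull_eq_sp (f : X ⟶ Y) {V : Y.Etale} {W : X.Etale} (t : W ⟶ (bc f).obj V)
    (a : W.left ⟶ V.left) (h : a ≫ V.hom = W.hom ≫ f) (e : t.left ≫ pr f V = a) (G : Ab Y)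
    (s : sect G V) : secPull f t G s = sp f a h G s := by
  have : t = lift f a h := hom_ext_bc f (by rw [e, lift_left_pr])
  rw [this]; rfl

theorem un_eq_sp (f : X ⟶ Y) (V : Y.Etale) (G : Ab Y) (s : sect G V) :
    un f G V s = sp f (W := (bc f).obj V) (pr f V) (pr_hom f V) G s := by
  rw [← secPull_eq_sp f (𝟙 ((bc f).obj V)) (pr f V) (pr_hom f V) (by rw [id_left, Category.id_comp]),
    secPull_apply, res_id]

theorem sp_res (f : X ⟶ Y) {V V' : Y.Etale} {W : X.Etale} (v : V ⟶ V') (a : W.left ⟶ V.left)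
    (h : a ≫ V.hom = W.hom ≫ f) (h' : (a ≫ v.left) ≫ V'.hom = W.hom ≫ f) (G : Ab Y)
    (s : sect G V') : sp f a h G (res G v s) = sp f (a ≫ v.left) h' G s := by
  rw [sp, ← secPull_bc]
  apply secPull_eq_sp
  rw [comp_left, Category.assoc, bc_map_left_pr, lift_left_pr_assoc]

theorem res_sp (f : X ⟶ Y) {V : Y.Etale} {W W' : X.Etale} (w : W' ⟶ W) (a : W.left ⟶ V.left)
    (h : a ≫ V.hom = W.hom ≫ f) (h' : (w.left ≫ a) ≫ V.hom = W'.hom ≫ f) (G : Ab Y)
    (s : sect G V) : res _ w (sp f a h G s) = sp f (w.left ≫ a) h' G s := by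
  rw [sp, ← secPull_res]
  apply secPull_eq_sp
  rw [comp_left, Category.assoc, lift_left_pr]

theorem sp_congr (f : X ⟶ Y) {V : Y.Etale} {W : X.Etale} {a b : W.left ⟶ V.left}
    (e : a = b) (h : a ≫ V.hom = W.hom ≫ f) (h' : b ≫ V.hom = W.hom ≫ f) (G : Ab Y)
    (s : sect G V) : sp f a h G s = sp f b h' G s := by
  subst e; rfl

theorem app_sp (f : X ⟶ Y) {V : Y.Etale} {W : X.Etale} (a : W.left ⟶ V.left)
    (h : a ≫ V.hom = W.hom ≫ f) {G G' : Ab Y} (φ : G ⟶ G') (s : sect G V) :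
    app ((pull f).map φ) W (sp f a h G s) = sp f a h G' (app φ V s) :=
  secPull_map f _ φ s

theorem kap_left_pr (g : Z ⟶ X) (f : X ⟶ Y) (V : Y.Etale) :
    (kap g f V).hom.left ≫ pr (g ≫ f) V = pr g _ ≫ pr f V :=
  kap_hom_left_fst g f V

/-- pullback of sections composes -/
theorem sp_sp (g : Z ⟶ X) (f : X ⟶ Y) {V : Y.Etale} {W : X.Etale} {R : Z.Etale}
    (a : W.left ⟶ V.left) (h : a ≫ V.hom = W.hom ≫ f) (b : R.left ⟶ W.left)
    (h' : b ≫ W.hom = R.hom ≫ g) (h'' : (b ≫ a) ≫ V.hom = R.hom ≫ g ≫ f) (G : Ab Y)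
    (s : sect G V) :
    sp g b h' ((pull f).obj G) (sp f a h G s) =
      app ((EtCore.pullComp g f).hom.app G) R (sp (g ≫ f) (b ≫ a) h'' G s) := by
  rw [sp, sp, secPull_secPull]
  congr 1
  apply secPull_eq_sp
  rw [comp_left, comp_left, Category.assoc, Category.assoc]
  refine (congrArg (fun k => (lift g b h').left ≫ ((bc g).map (lift f a h)).left ≫ k)
    (kap_left_pr g f V)).trans ?_
  rw [bc_map_left_pr_assoc, lift_left_pr_assoc, lift_left_pr]

theorem app_pullComp_inv_sp_sp (g : Z ⟶ X) (f : X ⟶ Y) {V : Y.Etale} {W : X.Etale} {R : Z.Etale}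
    (a : W.left ⟶ V.left) (h : a ≫ V.hom = W.hom ≫ f) (b : R.left ⟶ W.left)
    (h' : b ≫ W.hom = R.hom ≫ g) (h'' : (b ≫ a) ≫ V.hom = R.hom ≫ g ≫ f) (G : Ab Y)
    (s : sect G V) :
    app ((EtCore.pullComp g f).inv.app G) R (sp g b h' ((pull f).obj G) (sp f a h G s)) =
      sp (g ≫ f) (b ≫ a) h'' G s := by
  rw [sp_sp g f a h b h' h'', ← app_comp, Iso.hom_inv_id_app, app_id]

theorem app_pullCongr_sp {f f' : X ⟶ Y} (e : f = f') {V : Y.Etale} {W : X.Etale}
    (a : W.left ⟶ V.left) (h : a ≫ V.hom = W.hom ≫ f) (h' : a ≫ V.hom = W.hom ≫ f') (G : Ab Y)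
    (s : sect G V) :
    app ((EtCore.pullCongr e).hom.app G) W (sp f a h G s) = sp f' a h' G s := by
  subst e; rfl

section Square

variable {X' Y' : Scheme.{u}} (f : X ⟶ Y) (g : Y' ⟶ Y) (f' : X' ⟶ Y') (g' : X' ⟶ X)
  (w : g' ≫ f = f' ≫ g)

theorem app_Th (F : Ab Y) (R : X'.Etale) (x : sect ((pull f ⋙ pull g').obj F) R) :
    app ((EtCore.pullComp g' f).inv.app F ≫ (EtCore.pullCongr w).hom.app F ≫
      (EtCore.pullComp f' g).hom.app F) R x = app ((EtCore.pullComp f' g).hom.app F) R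
      (app ((EtCore.pullCongr w).hom.app F) R (app ((EtCore.pullComp g' f).inv.app F) R x)) :=
  (app_comp _ _ _ _).trans (app_comp _ _ _ _)

/-- the comparison `g'⁻¹ f⁻¹ F ⟶ f'⁻¹ g⁻¹ F` on iterated pullbacks of sections -/
theorem app_Th_sp_sp (F : Ab Y) {V : Y.Etale} {W : X.Etale} {W' : Y'.Etale} {R : X'.Etale}
    (a : W.left ⟶ V.left) (ha : a ≫ V.hom = W.hom ≫ f) (b : R.left ⟶ W.left)
    (hb : b ≫ W.hom = R.hom ≫ g') (a' : W'.left ⟶ V.left) (ha' : a' ≫ V.hom = W'.hom ≫ g)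
    (b' : R.left ⟶ W'.left) (hb' : b' ≫ W'.hom = R.hom ≫ f') (e : b ≫ a = b' ≫ a')
    (s : sect F V) :
    app ((EtCore.pullComp g' f).inv.app F ≫ (EtCore.pullCongr w).hom.app F ≫
      (EtCore.pullComp f' g).hom.app F) R (sp g' b hb _ (sp f a ha F s)) =
      sp f' b' hb' _ (sp g a' ha' F s) := by
  have h1 : (b ≫ a) ≫ V.hom = R.hom ≫ g' ≫ f := by
    rw [Category.assoc, ha, ← Category.assoc, hb, Category.assoc]
  have h2 : (b' ≫ a') ≫ V.hom = R.hom ≫ f' ≫ g := by
    rw [Category.assoc, ha', ← Category.assoc, hb', Category.assoc]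
  have h3 : (b ≫ a) ≫ V.hom = R.hom ≫ f' ≫ g := by rw [e, h2]
  refine (app_Th f g f' g' w F R _).trans ?_
  refine (congrArg (fun k => app ((EtCore.pullComp f' g).hom.app F) R
    (app ((EtCore.pullCongr w).hom.app F) R k))
    (app_pullComp_inv_sp_sp g' f a ha b hb h1 F s)).trans ?_
  refine (congrArg (fun k => app ((EtCore.pullComp f' g).hom.app F) R k)
    (app_pullCongr_sp w _ h1 h3 F s)).trans ?_
  refine Eq.trans ?_ (sp_sp f' g a' ha' b' hb' h2 F s).symm
  exact congrArg (fun k => app ((EtCore.pullComp f' g).hom.app F) R k)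
    (sp_congr _ e h3 h2 _ _)

/-- the comparison isomorphism of étale schemes -/
noncomputable def tau (V : Y.Etale) :
    (bc f').obj ((bc g).obj V) ⟶ (bc g').obj ((bc f).obj V) :=
  (compIso g f' V).inv ≫ (congrIso w V).inv ≫ (compIso f g' V).hom

theorem tau_left (V : Y.Etale) :
    (tau f g f' g' w V).left ≫ pr g' _ ≫ pr f V = pr f' _ ≫ pr g V := by
  rw [tau, comp_left, comp_left, Category.assoc, Category.assoc, compIso_hom_left_pr,
    congrIso_inv_left_pr, compIso_inv_left_pr]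

theorem unit_baseChange0 (F : Ab X) :
    (pullPushAdj g).unit.app ((push f).obj F) ≫
      (push g).map (baseChange0 f g f' g' w F) =
    ((push f).map ((pullPushAdj g').unit.app F) ≫ (pushComp f g').hom.app _ ≫
      (pushCongr w).hom.app _ ≫ (pushComp g f').inv.app _) := by
  have := ((pullPushAdj g).homEquiv _ _).apply_symm_apply
    ((push f).map ((pullPushAdj g').unit.app F) ≫ (pushComp f g').hom.app _ ≫
      (pushCongr w).hom.app _ ≫ (pushComp g f').inv.app _)
  rwa [Adjunction.homEquiv_unit] at this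

theorem app_baseChange0_un (F : Ab X) (V : Y.Etale) (s : sect F ((bc f).obj V)) :
    app (baseChange0 f g f' g' w F) ((bc g).obj V)
      (un g ((push f).obj F) V s) =
    res ((pull g').obj F) (tau f g f' g' w V) (un g' F ((bc f).obj V) s) := by
  have h := congrArg (fun k => k.hom.app (op V)) (unit_baseChange0 f g f' g' w F)
  have h2 := ConcreteCategory.congr_hom h s
  refine h2.trans ?_
  rw [tau, ← res_res, ← res_res]
  rfl

end Square

end Groth.Agent.Etdl.H165.SpCalc
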